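import Groth.Agent.NormalExtLib.Scheme

/-!
# Gluing two morphisms on opens of a scheme
-/

set_option autoImplicit false

universe u

open CategoryTheory Limits AlgebraicGeometry TopologicalSpace

namespace NormalExtLib

variable {X Y : Scheme.{u}}

/-- The cover of `U ⊔ V` by `U` and `V`. -/
noncomputable def supCover (U V : X.Opens) : Scheme.OpenCover.{u} ((U ⊔ V : X.Opens) : Scheme.{u}) :=
  Scheme.Cover.mkOfCovers (ULift.{u} Bool) (fun b ↦ ((bif b.down then U else V : X.Opens) : Scheme.{u}))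
    (fun b ↦ X.homOfLE (show (bif b.down then U else V) ≤ U ⊔ V by cases b.down <;> simp))
    (fun z ↦ by
      obtain ⟨z, hz⟩ := z
      rcases hz with hzU | hzV
      · exact ⟨⟨true⟩, ⟨z, hzU⟩, Subtype.ext (by simp)⟩
      · exact ⟨⟨false⟩, ⟨z, hzV⟩, Subtype.ext (by simp)⟩)
    (fun b ↦ by infer_instance)

theorem hom_ext_sup {U V : X.Opens} {f g : ((U ⊔ V : X.Opens) : Scheme.{u}) ⟶ Y}
    (h₁ : X.homOfLE (le_sup_left : U ≤ U ⊔ V) ≫ f = X.homOfLE le_sup_left ≫ g)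
    (h₂ : X.homOfLE (le_sup_right : V ≤ U ⊔ V) ≫ f = X.homOfLE le_sup_right ≫ g) : f = g :=
  Scheme.Cover.hom_ext (supCover U V) _ _ fun b ↦ match b with | ⟨true⟩ => h₁ | ⟨false⟩ => h₂

theorem exists_glue_sup (U V : X.Opens) (f : (U : Scheme.{u}) ⟶ Y) (g : (V : Scheme.{u}) ⟶ Y)
    (h : X.homOfLE (inf_le_left : U ⊓ V ≤ U) ≫ f = X.homOfLE (inf_le_right : U ⊓ V ≤ V) ≫ g) :
    ∃ k : ((U ⊔ V : X.Opens) : Scheme.{u}) ⟶ Y,
      X.homOfLE (le_sup_left : U ≤ U ⊔ V) ≫ k = f ∧ X.homOfLE (le_sup_right : V ≤ U ⊔ V) ≫ k = g := by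
  let 𝒰 := supCover U V
  let φ : ∀ b : ULift.{u} Bool, 𝒰.X b ⟶ Y := fun b ↦
    match b with | ⟨true⟩ => f | ⟨false⟩ => g
  have key : ∀ {T : Scheme.{u}} (a : T ⟶ (U : Scheme.{u})) (b : T ⟶ (V : Scheme.{u})),
      a ≫ U.ι = b ≫ V.ι → a ≫ f = b ≫ g := by
    intro T a b hab
    have hr : Set.range (a ≫ U.ι) ⊆ Set.range (U ⊓ V).ι := by
      rw [Scheme.Opens.range_ι]
      rintro _ ⟨t, rfl⟩
      refine ⟨(a t).2, ?_⟩
      rw [hab]; exact (b t).2
    let c := IsOpenImmersion.lift (U ⊓ V).ι (a ≫ U.ι) hr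
    have ha : c ≫ X.homOfLE inf_le_left = a := by
      rw [← cancel_mono U.ι, Category.assoc, Scheme.homOfLE_ι]; exact IsOpenImmersion.lift_fac _ _ _
    have hb : c ≫ X.homOfLE inf_le_right = b := by
      rw [← cancel_mono V.ι, Category.assoc, Scheme.homOfLE_ι, ← hab]
      exact IsOpenImmersion.lift_fac _ _ _
    rw [← ha, ← hb, Category.assoc, Category.assoc, h]
  have hcompat : ∀ i j, pullback.fst (𝒰.f i) (𝒰.f j) ≫ φ i = pullback.snd _ _ ≫ φ j := by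
    intro i j
    have hc := congrArg (· ≫ (U ⊔ V).ι) (pullback.condition (f := 𝒰.f i) (g := 𝒰.f j))
    have hf : ∀ b : ULift.{u} Bool, 𝒰.f b ≫ (U ⊔ V).ι = ((bif b.down then U else V : X.Opens)).ι := fun b ↦
      X.homOfLE_ι (show (bif b.down then U else V) ≤ U ⊔ V by cases b.down <;> simp)
    simp only [Category.assoc, hf] at hc
    rcases i with ⟨_ | _⟩ <;> rcases j with ⟨_ | _⟩
    · exact congrArg (· ≫ g) ((cancel_mono (𝒰.f ⟨false⟩)).mp pullback.condition)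
    · exact (key _ _ hc.symm).symm
    · exact key _ _ hc
    · exact congrArg (· ≫ f) ((cancel_mono (𝒰.f ⟨true⟩)).mp pullback.condition)
  exact ⟨𝒰.glueMorphisms φ hcompat, 𝒰.ι_glueMorphisms φ hcompat ⟨true⟩,
    𝒰.ι_glueMorphisms φ hcompat ⟨false⟩⟩

end NormalExtLib
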