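import Groth.Agent.NormalExtLib.Core

/-!
# Extending a section defined on a dense open to a normal point
-/

set_option autoImplicit false

universe u

open CategoryTheory Limits AlgebraicGeometry TopologicalSpace

namespace NormalExtLib

variable {X : Scheme.{u}}

theorem isDomain_stalk {W : X.Opens} [IsIntegral (W : Scheme.{u})] {x : X} (hxW : x ∈ W) :
    IsDomain (X.presheaf.stalk x) :=
  (W.stalkIso ⟨x, hxW⟩).commRingCatIsoToRingEquiv.toMulEquiv.isDomain_iff.mp inferInstance

theorem isGermInjectiveAt {W : X.Opens} [IsIntegral (W : Scheme.{u})] {x : X} (hxW : x ∈ W) :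
    X.IsGermInjectiveAt x :=
  (inferInstance : X.IsGermInjectiveAt (W.ι ⟨x, hxW⟩))

/-- An integral affine neighbourhood of a point with domain stalk. -/
theorem exists_isIntegral_nhd [IsLocallyNoetherian X] (x : X) [IsDomain (X.presheaf.stalk x)] :
    ∃ W : X.Opens, x ∈ W ∧ IsIntegral (W : Scheme.{u}) := by
  obtain ⟨W, hxW, hW, hinj⟩ := X.exists_germ_injective x
  have : IsDomain Γ(X, W) := hinj.isDomain (X.presheaf.germ W x hxW).hom
  have : IsAffine (W : Scheme.{u}) := hW
  have : Nonempty (W : Scheme.{u}) := ⟨⟨x, hxW⟩⟩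
  have : IsDomain Γ((W : Scheme.{u}), ⊤) :=
    W.topIso.commRingCatIsoToRingEquiv.toMulEquiv.isDomain Γ(X, W)
  exact ⟨W, hxW, isIntegral_of_isAffine_of_isDomain (W : Scheme.{u})⟩

section Gen

variable (x : X) [IsDomain (X.presheaf.stalk x)]

/-- The generic point of `Spec 𝒪_{X, x}` as a point with values in the fraction field. -/
noncomputable abbrev genHom :
    Spec (CommRingCat.of (FractionRing (X.presheaf.stalk x))) ⟶ Spec (X.presheaf.stalk x) :=
  Spec.map (CommRingCat.ofHom
    (algebraMap (X.presheaf.stalk x) (FractionRing (X.presheaf.stalk x))))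

/-- The generic point of `Spec 𝒪_{X, x}` as a point of `X` with values in the fraction field. -/
noncomputable abbrev genMap :
    Spec (CommRingCat.of (FractionRing (X.presheaf.stalk x))) ⟶ X :=
  genHom x ≫ X.fromSpecStalk x

/-- The image of the generic point of `Spec 𝒪_{X, x}`. -/
noncomputable abbrev genPt : X :=
  genMap x (IsLocalRing.closedPoint (FractionRing (X.presheaf.stalk x)))

theorem genPt_specializes_self : genPt x ⤳ x := by
  have h : genPt x ∈ Set.range (X.fromSpecStalk x) := ⟨_, rfl⟩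
  rwa [X.range_fromSpecStalk] at h

theorem genPt_specializes_of_specializes {u : X} (hu : u ⤳ x) : genPt x ⤳ u := by
  obtain ⟨a, rfl⟩ : u ∈ Set.range (X.fromSpecStalk x) := by
    rw [X.range_fromSpecStalk]; exact hu
  exact (gen_specializes (R := X.presheaf.stalk x)
    (algebraMap (X.presheaf.stalk x) (FractionRing (X.presheaf.stalk x)))
    (IsFractionRing.injective _ _) a).map (X.fromSpecStalk x).continuous

theorem genPt_specializes {W : X.Opens} [IsIntegral (W : Scheme.{u})] (hxW : x ∈ W) {u : X}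
    (hu : u ∈ W) : genPt x ⤳ u := by
  have h1 : W.ι (genericPoint (W.toScheme : Type u)) ⤳ x :=
    (genericPoint_specializes (α := (W.toScheme : Type u)) ⟨x, hxW⟩).map W.ι.continuous
  have h2 : W.ι (genericPoint (W.toScheme : Type u)) ⤳ u :=
    (genericPoint_specializes (α := (W.toScheme : Type u)) ⟨u, hu⟩).map W.ι.continuous
  exact (genPt_specializes_of_specializes x h1).trans h2

theorem genPt_mem_of_dense {W : X.Opens} [IsIntegral (W : Scheme.{u})] (hxW : x ∈ W) {U : X.Opens}
    (hU : Dense (U : Set X)) : genPt x ∈ U := by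
  obtain ⟨u, huW, huU⟩ := hU.inter_open_nonempty _ W.isOpen ⟨x, hxW⟩
  exact (genPt_specializes x hxW huW).mem_open U.isOpen huU

theorem range_genMap_subset {V : X.Opens} (h : genPt x ∈ V) :
    Set.range (genMap x) ⊆ Set.range V.ι := by
  rw [Scheme.Opens.range_ι]
  rintro _ ⟨a, rfl⟩
  rwa [Subsingleton.elim a (IsLocalRing.closedPoint _)]

/-- The generic point lifted to an open subset containing it. -/
noncomputable def genLift {V : X.Opens} (h : genPt x ∈ V) :
    Spec (CommRingCat.of (FractionRing (X.presheaf.stalk x))) ⟶ (V : Scheme.{u}) :=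
  IsOpenImmersion.lift V.ι (genMap x) (range_genMap_subset x h)

@[simp, reassoc]
theorem genLift_ι {V : X.Opens} (h : genPt x ∈ V) : genLift x h ≫ V.ι = genMap x :=
  IsOpenImmersion.lift_fac _ _ _

theorem genLift_homOfLE {V V' : X.Opens} (h : genPt x ∈ V) (hle : V ≤ V') :
    genLift x h ≫ X.homOfLE hle = genLift x (hle h) := by
  rw [← cancel_mono V'.ι, Category.assoc, Scheme.homOfLE_ι, genLift_ι, genLift_ι]

theorem genLift_eq_fromSpecStalkOfMem {V : X.Opens} (hxV : x ∈ V) :
    genLift x ((genPt_specializes_self x).mem_open V.isOpen hxV) =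
      genHom x ≫ V.fromSpecStalkOfMem x hxV := by
  rw [← cancel_mono V.ι, Category.assoc, Scheme.Opens.fromSpecStalkOfMem_ι, genLift_ι]

theorem genLift_apply {V : X.Opens} (h : genPt x ∈ V) :
    V.ι (genLift x h (IsLocalRing.closedPoint _)) = genPt x := by
  rw [← Scheme.Hom.comp_apply, genLift_ι]

/-- Two morphisms from an open of an integral neighbourhood of `x` to a separated scheme which
agree at the generic point are equal. -/
theorem hom_ext_of_genLift {W : X.Opens} [IsIntegral (W : Scheme.{u})] (hxW : x ∈ W)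
    {V : X.Opens} (hV : V ≤ W) (hgen : genPt x ∈ V) {Y Z : Scheme.{u}}
    (s : Y ⟶ Z) [IsSeparated s] {f g : (V : Scheme.{u}) ⟶ Y} (hs : f ≫ s = g ≫ s)
    (h : genLift x hgen ≫ f = genLift x hgen ≫ g) : f = g := by
  have : IsReduced (V : Scheme.{u}) := isReduced_of_isOpenImmersion (X.homOfLE hV)
  have : IsDominant (genLift x hgen) := by
    refine ⟨fun v ↦ ?_⟩
    have hsp : genLift x hgen (IsLocalRing.closedPoint _) ⤳ v := by
      rw [← V.ι.isOpenEmbedding.isInducing.specializes_iff, genLift_apply]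
      exact genPt_specializes x hxW (hV v.2)
    exact hsp.mem_closed isClosed_closure (subset_closure ⟨_, rfl⟩)
  exact ext_of_isDominant_of_isSeparated s hs (genLift x hgen) h

end Gen

theorem exists_section_of_specializes' (O : CommRingCat.{u}) [IsDomain O] [IsLocalRing O]
    [IsIntegrallyClosed O] {P : Scheme.{u}} (f : P ⟶ Spec O) [LocallyOfFiniteType f]
    (s : Spec (CommRingCat.of (FractionRing O)) ⟶ P)
    (hs : s ≫ f = Spec.map (CommRingCat.ofHom (algebraMap O (FractionRing O))))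
    {y : P} (hy : f y = IsLocalRing.closedPoint O)
    (hsy : s (IsLocalRing.closedPoint (FractionRing O)) ⤳ y)
    (hiso : ∃ V₀ : P.Opens, y ∈ V₀ ∧ ∀ z ∈ V₀,
      s (IsLocalRing.closedPoint (FractionRing O)) ⤳ z → f z = IsLocalRing.closedPoint O → z = y) :
    ∃ σ : Spec O ⟶ P, σ ≫ f = 𝟙 _ ∧ σ (IsLocalRing.closedPoint O) = y ∧
      Spec.map (CommRingCat.ofHom (algebraMap O (FractionRing O))) ≫ σ = s :=
  exists_section_of_specializes f s hs hy hsy hiso

/-- Spreading out a section over `Spec 𝒪_{X, x}`. -/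
theorem exists_spread {Y : Scheme.{u}} (q : Y ⟶ X) [LocallyOfFiniteType q] (x : X)
    [X.IsGermInjectiveAt x] (W : X.Opens) (hxW : x ∈ W)
    (σ : Spec (X.presheaf.stalk x) ⟶ Y) (hσ : σ ≫ q = X.fromSpecStalk x) :
    ∃ (V : X.Opens) (hxV : x ∈ V) (f : (V : Scheme.{u}) ⟶ Y), V ≤ W ∧ f ≫ q = V.ι ∧
      V.fromSpecStalkOfMem x hxV ≫ f = σ := by
  obtain ⟨V, hxV, f, h1, h2⟩ := spread_out_of_isGermInjective' (𝟙 X) q σ (by simpa using hσ)
  rw [Category.comp_id] at h2
  refine ⟨V ⊓ W, ⟨hxV, hxW⟩, X.homOfLE inf_le_left ≫ f, inf_le_right, ?_, ?_⟩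
  · rw [Category.assoc, h2, Scheme.homOfLE_ι]
  · rw [h1, ← Category.assoc]
    congr 1
    rw [← cancel_mono V.ι, Category.assoc, Scheme.homOfLE_ι, Scheme.Opens.fromSpecStalkOfMem_ι,
      Scheme.Opens.fromSpecStalkOfMem_ι]

/-- **Extension to a normal point**: a section `h` of `q` over `U` whose value at the generic point
specializes to a point `y` over `x`, isolated among such points, extends near `x`. -/
theorem exists_section_nhd {Y : Scheme.{u}} (q : Y ⟶ X) [LocallyOfFiniteType q] [IsSeparated q]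
    (x : X) [IsDomain (X.presheaf.stalk x)] (hx : IsIntegrallyClosed (X.presheaf.stalk x))
    {W : X.Opens} [IsIntegral (W : Scheme.{u})] (hxW : x ∈ W)
    (U : X.Opens) (hξ : genPt x ∈ U) (h : (U : Scheme.{u}) ⟶ Y) (hh : h ≫ q = U.ι)
    (y : Y) (hy : q y = x)
    (hsy : (genLift x hξ ≫ h) (IsLocalRing.closedPoint _) ⤳ y)
    (hiso : ∃ V₀ : Y.Opens, y ∈ V₀ ∧ ∀ z ∈ V₀,
      (genLift x hξ ≫ h) (IsLocalRing.closedPoint _) ⤳ z → q z = x → z = y) :
    ∃ (V : X.Opens) (hxV : x ∈ V) (f : (V : Scheme.{u}) ⟶ Y), f ≫ q = V.ι ∧ f ⟨x, hxV⟩ = y ∧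
      X.homOfLE (inf_le_right : U ⊓ V ≤ V) ≫ f = X.homOfLE (inf_le_left : U ⊓ V ≤ U) ≫ h := by
  have := isGermInjectiveAt hxW
  let a := X.fromSpecStalk x
  let s : Spec (CommRingCat.of (FractionRing (X.presheaf.stalk x))) ⟶ pullback q a :=
    pullback.lift (genLift x hξ ≫ h) (genHom x) (by rw [Category.assoc, hh, genLift_ι])
  have hs1 : s ≫ pullback.fst q a = genLift x hξ ≫ h := pullback.lift_fst _ _ _
  have hs2 : s ≫ pullback.snd q a = genHom x := pullback.lift_snd _ _ _
  obtain ⟨y', hy'1, hy'2⟩ := Scheme.Pullback.exists_preimage_pullback (f := q) (g := a) y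
    (IsLocalRing.closedPoint (X.presheaf.stalk x))
    (hy.trans (X.fromSpecStalk_closedPoint).symm)
  have hemb := (pullback.fst q a).isEmbedding
  have hsy' : s (IsLocalRing.closedPoint _) ⤳ y' := by
    rw [← hemb.isInducing.specializes_iff, hy'1, ← Scheme.Hom.comp_apply, hs1]
    exact hsy
  have hiso' : ∃ V₀ : (pullback q a).Opens, y' ∈ V₀ ∧ ∀ z ∈ V₀,
      s (IsLocalRing.closedPoint _) ⤳ z →
        pullback.snd q a z = IsLocalRing.closedPoint (X.presheaf.stalk x) → z = y' := by
    obtain ⟨V₀, hyV₀, H⟩ := hiso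
    refine ⟨pullback.fst q a ⁻¹ᵁ V₀, show pullback.fst q a y' ∈ V₀ by rw [hy'1]; exact hyV₀,
      fun z hz hsz hzx ↦ hemb.injective ?_⟩
    rw [hy'1]
    refine H _ hz ?_ ?_
    · rw [← hs1]
      exact hsz.map (pullback.fst q a).continuous
    · rw [← Scheme.Hom.comp_apply, pullback.condition, Scheme.Hom.comp_apply, hzx,
        Scheme.fromSpecStalk_closedPoint]
  have : IsIntegrallyClosed (X.presheaf.stalk x) := hx
  obtain ⟨σ₀, hσ1, hσ2, hσ3⟩ := exists_section_of_specializes' (X.presheaf.stalk x) (pullback.snd q a) s hs2 hy'2 hsy' hiso'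
  have hσq : (σ₀ ≫ pullback.fst q a) ≫ q = X.fromSpecStalk x := by
    rw [Category.assoc, pullback.condition, reassoc_of% hσ1]
  obtain ⟨V, hxV, f, hVW, hfq, hfσ⟩ :=
    exists_spread q x W hxW (σ₀ ≫ pullback.fst q a) hσq
  refine ⟨V, hxV, f, hfq, ?_, ?_⟩
  · have : (V.fromSpecStalkOfMem x hxV) (IsLocalRing.closedPoint _) = ⟨x, hxV⟩ := by
      apply V.ι.isOpenEmbedding.injective
      rw [← Scheme.Hom.comp_apply, Scheme.Opens.fromSpecStalkOfMem_ι,
        Scheme.fromSpecStalk_closedPoint]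
      rfl
    rw [← this, ← Scheme.Hom.comp_apply, hfσ, Scheme.Hom.comp_apply]
    exact (congrArg _ hσ2).trans hy'1
  · have hgen : genPt x ∈ U ⊓ V := ⟨hξ, (genPt_specializes_self x).mem_open V.isOpen hxV⟩
    refine hom_ext_of_genLift x hxW (inf_le_right.trans hVW) hgen q ?_ ?_
    · rw [Category.assoc, Category.assoc, hfq, hh, Scheme.homOfLE_ι, Scheme.homOfLE_ι]
    · rw [← Category.assoc, ← Category.assoc, genLift_homOfLE, genLift_homOfLE,
        genLift_eq_fromSpecStalkOfMem x hxV, Category.assoc, hfσ, ← hs1]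
      exact (Category.assoc _ _ _).symm.trans (congrArg (· ≫ pullback.fst q a) hσ3)

end NormalExtLib
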