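import Mathlib

/-!
# Zariski's main theorem over a local normal domain: sections through a point
-/

set_option autoImplicit false

universe u

open CategoryTheory Limits AlgebraicGeometry TopologicalSpace

namespace NormalExtLib

section Algebra

variable {O : Type u} [CommRing O] [IsDomain O] [IsLocalRing O] [IsIntegrallyClosed O]
  {K : Type u} [Field K] [Algebra O K] [IsFractionRing O K]

/-- A finite type subalgebra of the fraction field of a normal local domain which is quasi-finite
at a prime over the maximal ideal consists of elements of the local ring. -/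
theorem mem_range_of_quasiFiniteAt (S : Subalgebra O K) [Algebra.FiniteType O S]
    (p : Ideal S) [p.IsPrime] [Algebra.QuasiFiniteAt O p]
    (hp : p.comap (algebraMap O S) = IsLocalRing.maximalIdeal O) :
    ∀ x ∈ S, x ∈ Set.range (algebraMap O K) := by
  intro x hx
  obtain ⟨r, hrp, hr, H⟩ :=
    Algebra.zariskisMainProperty_iff.mp (Algebra.ZariskisMainProperty.of_finiteType (R := O) p)
  obtain ⟨o, ho⟩ := IsIntegrallyClosed.isIntegral_iff.mp (hr.map S.val)
  have hro : algebraMap O S o = r := Subtype.ext ho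
  have hu : IsUnit o := by
    by_contra hu
    have : o ∈ p.comap (algebraMap O S) := hp ▸ (IsLocalRing.mem_maximalIdeal o).mpr hu
    exact hrp (hro ▸ this)
  obtain ⟨m, hm⟩ := H ⟨x, hx⟩
  obtain ⟨c, hc⟩ := IsIntegrallyClosed.isIntegral_iff.mp (hm.map S.val)
  refine ⟨((hu.pow m).unit⁻¹ : Oˣ) * c, ?_⟩
  have hc' : algebraMap O K c = algebraMap O K (o ^ m) * x := by
    rw [hc, map_pow, ho]; simp
  rw [map_mul, hc', ← mul_assoc, ← map_mul, IsUnit.val_inv_mul, map_one, one_mul]

end Algebra

theorem closedPoint_map_eq_bot {R K : Type u} [CommRing R] [IsDomain R] [Field K] (f : R →+* K)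
    (hf : Function.Injective f) :
    (Spec.map (CommRingCat.ofHom f) (IsLocalRing.closedPoint K) : PrimeSpectrum R) =
      ⟨⊥, Ideal.isPrime_bot⟩ := by
  apply PrimeSpectrum.ext
  show Ideal.comap f (IsLocalRing.maximalIdeal K) = ⊥
  rw [IsLocalRing.isField_iff_maximalIdeal_eq.mp (Field.toIsField K),
    ← RingHom.ker_eq_comap_bot, (RingHom.injective_iff_ker_eq_bot f).mp hf]

/-- The image of the generic point specializes to the image of every point. -/
theorem gen_specializes {R K : Type u} [CommRing R] [IsDomain R] [Field K] (f : R →+* K)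
    (hf : Function.Injective f) (a : ↥(Spec (CommRingCat.of R))) :
    Spec.map (CommRingCat.ofHom f) (IsLocalRing.closedPoint K) ⤳ a := by
  rw [closedPoint_map_eq_bot f hf]
  exact (PrimeSpectrum.le_iff_specializes _ _).mp bot_le

/-- If a morphism into an affine open `V` is given on points, it factors through `Spec Γ(V)`. -/
theorem exists_fac_fromSpec {P : Scheme.{u}} {V : P.Opens} (hV : IsAffineOpen V)
    {R : CommRingCat.{u}} (t : Spec R ⟶ P) (ht : ∀ a, t a ∈ V) :
    ∃ φ : Γ(P, V) ⟶ R, Spec.map φ ≫ hV.fromSpec = t := by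
  have hr : Set.range t ⊆ Set.range hV.fromSpec := by
    rw [hV.range_fromSpec]; rintro _ ⟨a, rfl⟩; exact ht a
  obtain ⟨φ, hφ⟩ := Spec.map_surjective (IsOpenImmersion.lift hV.fromSpec t hr)
  exact ⟨φ, by rw [hφ, IsOpenImmersion.lift_fac]⟩

/-- A specializing point of a local scheme maps into every open containing the closed image. -/
theorem mem_of_closedPoint_mem {P : Scheme.{u}} {V : P.Opens}
    {R : CommRingCat.{u}} [IsLocalRing R] (t : Spec R ⟶ P)
    (ht : t (IsLocalRing.closedPoint R) ∈ V) (a) : t a ∈ V :=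
  ((IsLocalRing.specializes_closedPoint a).map t.continuous).mem_open V.isOpen ht

section Local

variable {O : Type u} [CommRing O] [IsDomain O] [IsLocalRing O]
  {K : Type u} [Field K] [Algebra O K] [IsFractionRing O K]
  {P : Scheme.{u}} (f : P ⟶ Spec (CommRingCat.of O))

/-- A `K`-point of `P` all of whose coordinates at a point over the closed point are in `O`
extends to a section. -/
theorem exists_section_of_range {V : P.Opens} (hV : IsAffineOpen V) {y : P} (hyV : y ∈ V)
    (hy : f y = IsLocalRing.closedPoint O)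
    (φ : Γ(P, V) ⟶ CommRingCat.of K)
    (hs : Spec.map φ ≫ hV.fromSpec ≫ f = Spec.map (CommRingCat.ofHom (algebraMap O K)))
    (hker : RingHom.ker φ.hom ≤ (hV.primeIdealOf ⟨y, hyV⟩).asIdeal)
    (H : ∀ b, φ.hom b ∈ Set.range (algebraMap O K)) :
    ∃ σ : Spec (CommRingCat.of O) ⟶ P, σ ≫ f = 𝟙 _ ∧ σ (IsLocalRing.closedPoint O) = y ∧
      Spec.map (CommRingCat.ofHom (algebraMap O K)) ≫ σ = Spec.map φ ≫ hV.fromSpec := by
  obtain ⟨α, hα⟩ := Spec.map_surjective (hV.fromSpec ≫ f)
  have hαφ : φ.hom.comp α.hom = algebraMap O K := by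
    rw [← hα, ← Spec.map_comp] at hs
    exact congrArg CommRingCat.Hom.hom (Spec.map_injective hs)
  have inj : Function.Injective (algebraMap O K) := IsFractionRing.injective O K
  choose g hg using H
  let ψ : Γ(P, V) →+* O :=
    { toFun := g
      map_one' := inj (by simp [hg])
      map_zero' := inj (by simp [hg])
      map_add' := fun a b ↦ inj (by simp [hg])
      map_mul' := fun a b ↦ inj (by simp [hg]) }
  have hψ : (algebraMap O K).comp ψ = φ.hom := RingHom.ext hg
  have hψα : ψ.comp α.hom = RingHom.id O :=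
    RingHom.ext fun o ↦ inj (by
      show algebraMap O K (g (α.hom o)) = _
      rw [hg]; exact RingHom.congr_fun hαφ o)
  refine ⟨Spec.map (CommRingCat.ofHom ψ) ≫ hV.fromSpec, ?_, ?_, ?_⟩
  · rw [Category.assoc, ← hα, ← Spec.map_comp, ← Spec.map_id]
    congr 1; exact CommRingCat.hom_ext hψα
  · have hp : ((Spec.map α) (hV.primeIdealOf ⟨y, hyV⟩)) = IsLocalRing.closedPoint O := by
      rw [hα, Scheme.Hom.comp_apply, hV.fromSpec_primeIdealOf, hy]
    have key : (Spec.map (CommRingCat.ofHom ψ)) (IsLocalRing.closedPoint O) =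
        hV.primeIdealOf ⟨y, hyV⟩ := by
      apply PrimeSpectrum.ext
      show Ideal.comap ψ (IsLocalRing.maximalIdeal O) = _
      have hp' : Ideal.comap α.hom (hV.primeIdealOf ⟨y, hyV⟩).asIdeal =
          IsLocalRing.maximalIdeal O := congrArg PrimeSpectrum.asIdeal hp
      ext b
      have hb : b - α.hom (ψ b) ∈ (hV.primeIdealOf ⟨y, hyV⟩).asIdeal := by
        apply hker
        rw [RingHom.mem_ker, map_sub, sub_eq_zero]
        rw [show φ.hom (α.hom (ψ b)) = algebraMap O K (ψ b) from RingHom.congr_fun hαφ _]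
        exact (hg b).symm
      rw [Ideal.mem_comap, ← hp', Ideal.mem_comap]
      exact ⟨fun h ↦ by simpa using add_mem hb h, fun h ↦ by simpa using sub_mem h hb⟩
    rw [Scheme.Hom.comp_apply, key, hV.fromSpec_primeIdealOf]
  · rw [← Category.assoc, ← Spec.map_comp]
    congr 2; exact CommRingCat.hom_ext hψ

variable [IsIntegrallyClosed O]

/-- If `y` lies over the closed point and is isolated among the points over the closed point to
which the `K`-point `s` specializes, then `s` extends to a section through `y`. -/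
theorem exists_section_of_specializes [LocallyOfFiniteType f]
    (s : Spec (CommRingCat.of K) ⟶ P)
    (hs : s ≫ f = Spec.map (CommRingCat.ofHom (algebraMap O K)))
    {y : P} (hy : f y = IsLocalRing.closedPoint O) (hsy : s (IsLocalRing.closedPoint K) ⤳ y)
    (hiso : ∃ V₀ : P.Opens, y ∈ V₀ ∧ ∀ z ∈ V₀, s (IsLocalRing.closedPoint K) ⤳ z →
      f z = IsLocalRing.closedPoint O → z = y) :
    ∃ σ : Spec (CommRingCat.of O) ⟶ P, σ ≫ f = 𝟙 _ ∧ σ (IsLocalRing.closedPoint O) = y ∧
      Spec.map (CommRingCat.ofHom (algebraMap O K)) ≫ σ = s := by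
  obtain ⟨V₀, hyV₀, hV₀⟩ := hiso
  obtain ⟨_, ⟨V, hV, rfl⟩, hyV, hVV₀⟩ :=
    P.isBasis_affineOpens.exists_subset_of_mem_open hyV₀ V₀.isOpen
  have hV : IsAffineOpen V := hV
  have hsV : s (IsLocalRing.closedPoint K) ∈ V := hsy.mem_open V.isOpen hyV
  obtain ⟨φ, hφ⟩ := exists_fac_fromSpec hV s fun a ↦ Subsingleton.elim a _ ▸ hsV
  obtain ⟨α, hα⟩ := Spec.map_surjective (hV.fromSpec ≫ f)
  have hft : α.hom.FiniteType := by
    have : LocallyOfFiniteType (Spec.map α) := hα ▸ inferInstance
    exact HasRingHomProperty.Spec_iff.mp this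
  letI : Algebra O Γ(P, V) := α.hom.toAlgebra
  have : Algebra.FiniteType O Γ(P, V) := hft
  have hαφ : φ.hom.comp α.hom = algebraMap O K := by
    rw [← hφ, Category.assoc, ← hα, ← Spec.map_comp] at hs
    exact congrArg CommRingCat.Hom.hom (Spec.map_injective hs)
  let φ' : Γ(P, V) →ₐ[O] K := ⟨φ.hom, RingHom.congr_fun hαφ⟩
  have : Algebra.FiniteType O φ'.range :=
    .of_surjective φ'.rangeRestrict φ'.rangeRestrict_surjective
  -- the specialization in terms of ideals
  have hspec : ∀ q : ↥(Spec Γ(P, V)),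
      s (IsLocalRing.closedPoint K) ⤳ hV.fromSpec q ↔ RingHom.ker φ.hom ≤ q.asIdeal := by
    intro q
    rw [← hφ, Scheme.Hom.comp_apply, hV.fromSpec.isOpenEmbedding.isInducing.specializes_iff]
    refine (PrimeSpectrum.le_iff_specializes _ _).symm.trans ?_
    show Ideal.comap φ.hom (IsLocalRing.maximalIdeal K) ≤ q.asIdeal ↔ _
    rw [IsLocalRing.isField_iff_maximalIdeal_eq.mp (Field.toIsField K), ← RingHom.ker_eq_comap_bot]
  have hker : RingHom.ker φ.hom ≤ (hV.primeIdealOf ⟨y, hyV⟩).asIdeal :=
    (hspec _).mp (by rw [hV.fromSpec_primeIdealOf]; exact hsy)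
  let Q : Ideal φ'.range := (hV.primeIdealOf ⟨y, hyV⟩).asIdeal.map φ'.rangeRestrict
  have hker' : RingHom.ker φ'.rangeRestrict ≤ (hV.primeIdealOf ⟨y, hyV⟩).asIdeal :=
    fun b hb ↦ hker (congrArg Subtype.val hb)
  have hQ : Q.IsPrime := Ideal.map_isPrime_of_surjective φ'.rangeRestrict_surjective hker'
  have hQc : Q.comap φ'.rangeRestrict = (hV.primeIdealOf ⟨y, hyV⟩).asIdeal := by
    rw [Ideal.comap_map_of_surjective _ φ'.rangeRestrict_surjective, sup_eq_left,
      ← RingHom.ker_eq_comap_bot]
    exact hker'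
  have hQO : Q.comap (algebraMap O φ'.range) = IsLocalRing.maximalIdeal O := by
    have : (Spec.map α) (hV.primeIdealOf ⟨y, hyV⟩) = IsLocalRing.closedPoint O := by
      rw [hα, Scheme.Hom.comp_apply, hV.fromSpec_primeIdealOf, hy]
    have h2 : Ideal.comap α.hom (hV.primeIdealOf ⟨y, hyV⟩).asIdeal =
        IsLocalRing.maximalIdeal O := congrArg PrimeSpectrum.asIdeal this
    rw [← h2, ← hQc]
    ext o
    simp only [Ideal.mem_comap]
    rw [show φ'.rangeRestrict (α.hom o) = algebraMap O φ'.range o from φ'.rangeRestrict.commutes o]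
  have : Algebra.QuasiFiniteAt O Q := by
    apply (Algebra.quasiFiniteAt_iff_isOpen_singleton_fiber (R := O) ⟨Q, hQ⟩).mpr
    convert isOpen_univ
    refine Set.eq_univ_iff_forall.mpr fun q' ↦ ?_
    obtain ⟨q', hq'⟩ := q'
    simp only [Set.mem_singleton_iff, Subtype.mk.injEq]
    let q : PrimeSpectrum Γ(P, V) := PrimeSpectrum.comap φ'.rangeRestrict.toRingHom q'
    have hz : hV.fromSpec q = y := by
      have hmem : hV.fromSpec q ∈ V := hV.range_fromSpec.le ⟨q, rfl⟩
      refine hV₀ _ (hVV₀ hmem) ((hspec q).mpr fun b hb ↦ ?_) ?_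
      · show φ'.rangeRestrict b ∈ q'.asIdeal
        have : φ'.rangeRestrict b = 0 := Subtype.ext hb
        rw [this]; exact q'.asIdeal.zero_mem
      · rw [← Scheme.Hom.comp_apply, ← hα]
        apply PrimeSpectrum.ext
        show Ideal.comap α.hom q.asIdeal = IsLocalRing.maximalIdeal O
        rw [← hQO]
        have hq'' : q'.asIdeal.comap (algebraMap O φ'.range) = Q.comap (algebraMap O φ'.range) :=
          congrArg PrimeSpectrum.asIdeal hq'
        rw [← hq'']
        ext o
        simp only [Ideal.mem_comap]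
        show φ'.rangeRestrict (α.hom o) ∈ q'.asIdeal ↔ _
        rw [show φ'.rangeRestrict (α.hom o) = algebraMap O φ'.range o from
          φ'.rangeRestrict.commutes o]
    have hqy : q = hV.primeIdealOf ⟨y, hyV⟩ :=
      hV.fromSpec.isOpenEmbedding.injective (hz.trans (hV.fromSpec_primeIdealOf ⟨y, hyV⟩).symm)
    apply PrimeSpectrum.comap_injective_of_surjective φ'.rangeRestrict.toRingHom
      φ'.rangeRestrict_surjective
    refine hqy.trans (PrimeSpectrum.ext hQc.symm)
  have H : ∀ b, φ.hom b ∈ Set.range (algebraMap O K) := fun b ↦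
    mem_range_of_quasiFiniteAt φ'.range Q hQO _ (φ'.mem_range_self b)
  have := exists_section_of_range f hV hyV hy φ
    (by rw [← Category.assoc, hφ, hs]) hker H
  rwa [hφ] at this

end Local

end NormalExtLib
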