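import Groth.Agent.NormalExtLib.Scheme
import Groth.Agent.NormalExtLib.Dvr
import Groth.Agent.DvrDom.Scheme

/-!
# The valuative criterion for a section to be defined at a normal point
-/

set_option autoImplicit false

universe u

open CategoryTheory Limits AlgebraicGeometry TopologicalSpace

namespace NormalExtLib

variable {X Y : Scheme.{u}}

/-- The condition on discrete valuation rings in the criterion. -/
def DvrCond (q : Y ⟶ X) (U : X.Opens) (h : (U : Scheme.{u}) ⟶ Y) (x : X) (y₀ : Y) : Prop :=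
  ∀ (R : Type u) [CommRing R] [IsDomain R] [IsDiscreteValuationRing R]
    (u : Spec (CommRingCat.of R) ⟶ X), u (IsLocalRing.closedPoint R) = x →
    ∀ ub : Spec (CommRingCat.of (FractionRing R)) ⟶ (U : Scheme.{u}),
      ub ≫ U.ι = Spec.map (CommRingCat.ofHom (algebraMap R (FractionRing R))) ≫ u →
      ∃ h₁ : Spec (CommRingCat.of R) ⟶ Y, h₁ ≫ q = u ∧ h₁ (IsLocalRing.closedPoint R) = y₀ ∧
        Spec.map (CommRingCat.ofHom (algebraMap R (FractionRing R))) ≫ h₁ = ub ≫ h

theorem fractionRing_gen_apply (R : Type u) [CommRing R] [IsDomain R] {K : Type u} [Field K]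
    (f : R →+* K) (hf : Function.Injective f) :
    Spec.map (CommRingCat.ofHom (algebraMap R (FractionRing R)))
        (IsLocalRing.closedPoint (FractionRing R)) =
      Spec.map (CommRingCat.ofHom f) (IsLocalRing.closedPoint K) :=
  (closedPoint_map_eq_bot _ (IsFractionRing.injective R (FractionRing R))).trans
    (closedPoint_map_eq_bot f hf).symm

theorem DvrCond.specializes [IsLocallyNoetherian X] {q : Y ⟶ X} {U : X.Opens}
    {h : (U : Scheme.{u}) ⟶ Y} {x : X} {y₀ : Y} (H : DvrCond q U h x y₀) (hxU : x ∉ U)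
    (v : (U : Scheme.{u})) (hv : U.ι v ⤳ x) : h v ⤳ y₀ := by
  have hne : x ≠ U.ι v := fun e ↦ hxU (e ▸ v.2)
  obtain ⟨A, u, hA, hu, hgen⟩ :=
    DvrDomLib.exists_dvr_through_specialization (𝟙 X) (U.ι v) x hv hne
  have hgenU : (Spec.map (CommRingCat.ofHom (algebraMap A (FractionRing A))) ≫ u)
      (IsLocalRing.closedPoint (FractionRing A)) = U.ι v := by
    rw [Scheme.Hom.comp_apply, fractionRing_gen_apply A A.subtype Subtype.val_injective,
      ← Scheme.Hom.comp_apply, hgen, Category.comp_id, Scheme.fromSpecResidueField_apply]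
  have hrU : Set.range (Spec.map (CommRingCat.ofHom (algebraMap A (FractionRing A))) ≫ u) ⊆
      Set.range U.ι := by
    rintro _ ⟨a, rfl⟩
    exact ⟨v, by rw [Subsingleton.elim a (IsLocalRing.closedPoint _), hgenU]⟩
  obtain ⟨h₁, -, hc, hag⟩ := H A u hu (IsOpenImmersion.lift U.ι _ hrU)
    (IsOpenImmersion.lift_fac _ _ _)
  have hv' : IsOpenImmersion.lift U.ι _ hrU (IsLocalRing.closedPoint _) = v := by
    apply U.ι.isOpenEmbedding.injective
    rw [← Scheme.Hom.comp_apply, IsOpenImmersion.lift_fac, hgenU]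
  have := congrArg (fun m ↦ m (IsLocalRing.closedPoint (FractionRing A))) hag
  rw [Scheme.Hom.comp_apply, Scheme.Hom.comp_apply, hv'] at this
  rw [← this, ← hc]
  exact (IsLocalRing.specializes_closedPoint _).map h₁.continuous

/-- A `K`-point of `P` over `Spec O` extends to a section through `y` as soon as it does so over
every discrete valuation ring dominating `O`. -/
theorem exists_section_of_dvr (O : CommRingCat.{u}) [IsDomain O] [IsLocalRing O]
    [IsNoetherianRing O] [IsIntegrallyClosed O] (hO : IsLocalRing.maximalIdeal O ≠ ⊥)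
    {P : Scheme.{u}} (f : P ⟶ Spec O) (s : Spec (CommRingCat.of (FractionRing O)) ⟶ P)
    (hs : s ≫ f = Spec.map (CommRingCat.ofHom (algebraMap O (FractionRing O))))
    {y : P} (hy : f y = IsLocalRing.closedPoint O)
    (H : ∀ R : ValuationSubring (FractionRing O), IsDiscreteValuationRing R →
      (∀ a, algebraMap O (FractionRing O) a ∈ R) →
      (∀ a ∈ IsLocalRing.maximalIdeal O, R.valuation (algebraMap O (FractionRing O) a) < 1) →
      ∃ t : Spec (CommRingCat.of R) ⟶ P, t (IsLocalRing.closedPoint R) = y ∧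
        Spec.map (CommRingCat.ofHom R.subtype) ≫ t = s) :
    ∃ σ : Spec O ⟶ P, σ ≫ f = 𝟙 _ ∧ σ (IsLocalRing.closedPoint O) = y ∧
      Spec.map (CommRingCat.ofHom (algebraMap O (FractionRing O))) ≫ σ = s := by
  have hcl : Subfield.closure (Set.range (algebraMap O (FractionRing O)) ∪
      ((∅ : Finset (FractionRing O)) : Set (FractionRing O))) = ⊤ := by
    refine eq_top_iff.mpr fun z _ ↦ ?_
    obtain ⟨a, b, -, rfl⟩ := IsFractionRing.div_surjective (A := O) z
    exact div_mem (Subfield.subset_closure (Or.inl ⟨a, rfl⟩))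
      (Subfield.subset_closure (Or.inl ⟨b, rfl⟩))
  have hni : ∀ b : FractionRing O, b ∉ Set.range (algebraMap O (FractionRing O)) →
      ¬ IsIntegral O b := fun b hb hi ↦ hb (IsIntegrallyClosed.isIntegral_iff.mp hi)
  obtain ⟨_, ⟨V, hV, rfl⟩, hyV, -⟩ :=
    P.isBasis_affineOpens.exists_subset_of_mem_open (Set.mem_univ y) isOpen_univ
  have hV : IsAffineOpen V := hV
  -- a first valuation ring, to see that `s` specializes to `y`
  obtain ⟨a, ha, ha0⟩ := Submodule.exists_mem_ne_zero_of_ne_bot hO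
  have hinv : ((algebraMap O (FractionRing O) a)⁻¹) ∉ Set.range (algebraMap O (FractionRing O)) := by
    rintro ⟨b, hb⟩
    apply (IsLocalRing.mem_maximalIdeal a).mp ha
    refine IsUnit.of_mul_eq_one b (IsFractionRing.injective O (FractionRing O) ?_)
    rw [map_mul, hb, map_one, mul_inv_cancel₀]
    exact (map_ne_zero_iff _ (IsFractionRing.injective O (FractionRing O))).mpr ha0
  obtain ⟨R₀, hR₀, hR₀O, hR₀m, -⟩ := exists_dvr_dominating_not_mem ∅ hcl _ (hni _ hinv)
  obtain ⟨t₀, ht₀, ht₀s⟩ := H R₀ hR₀ hR₀O hR₀m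
  have hsy : s (IsLocalRing.closedPoint (FractionRing O)) ⤳ y := by
    rw [← ht₀s, Scheme.Hom.comp_apply, ← ht₀]
    exact (IsLocalRing.specializes_closedPoint _).map t₀.continuous
  have hsV : s (IsLocalRing.closedPoint (FractionRing O)) ∈ V := hsy.mem_open V.isOpen hyV
  obtain ⟨φ, hφ⟩ := exists_fac_fromSpec hV s fun a ↦ Subsingleton.elim a _ ▸ hsV
  have hrange : ∀ b, φ.hom b ∈ Set.range (algebraMap O (FractionRing O)) := by
    intro b
    by_contra hb
    obtain ⟨R, hR, hRO, hRm, hbR⟩ := exists_dvr_dominating_not_mem ∅ hcl _ (hni _ hb)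
    obtain ⟨t, ht, hts⟩ := H R hR hRO hRm
    obtain ⟨χ, hχ⟩ := exists_fac_fromSpec hV t (mem_of_closedPoint_mem t (ht.symm ▸ hyV))
    rw [← hχ, ← Category.assoc, ← Spec.map_comp, ← hφ, cancel_mono] at hts
    have := RingHom.congr_fun (congrArg CommRingCat.Hom.hom (Spec.map_injective hts)) b
    exact hbR (this ▸ (χ.hom b).2)
  have hker : RingHom.ker φ.hom ≤ (hV.primeIdealOf ⟨y, hyV⟩).asIdeal := by
    replace hsy : s (IsLocalRing.closedPoint (FractionRing O)) ⤳
        hV.fromSpec (hV.primeIdealOf ⟨y, hyV⟩) := by rw [hV.fromSpec_primeIdealOf]; exact hsy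
    rw [← hφ, Scheme.Hom.comp_apply,
      hV.fromSpec.isOpenEmbedding.isInducing.specializes_iff] at hsy
    intro b hb
    refine (PrimeSpectrum.le_iff_specializes _ _).mpr hsy ?_
    show φ.hom b ∈ IsLocalRing.maximalIdeal _
    rw [RingHom.mem_ker.mp hb]
    exact zero_mem _
  have := exists_section_of_range f hV hyV hy φ (by rw [← Category.assoc, hφ, hs]) hker hrange
  rwa [hφ] at this

/-- **Valuative criterion for a section to be defined at a normal point.** -/
theorem exists_section_of_dvrCond [IsLocallyNoetherian X] (q : Y ⟶ X) [LocallyOfFiniteType q]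
    (U : X.Opens) (hU : Dense (U : Set X)) (h : (U : Scheme.{u}) ⟶ Y) (hh : h ≫ q = U.ι) (x : X)
    (hxU : x ∉ U) [IsDomain (X.presheaf.stalk x)] (hx : IsIntegrallyClosed (X.presheaf.stalk x))
    (y₀ : Y) (hy₀ : q y₀ = x) (H : DvrCond q U h x y₀) :
    ∃ (V : X.Opens) (hxV : x ∈ V) (g : (V : Scheme.{u}) ⟶ Y), g ≫ q = V.ι ∧ g ⟨x, hxV⟩ = y₀ ∧
      X.homOfLE (inf_le_right : U ⊓ V ≤ V) ≫ g = X.homOfLE (inf_le_left : U ⊓ V ≤ U) ≫ h := by
  obtain ⟨W, hxW, hW⟩ := exists_isIntegral_nhd x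
  have hξ : genPt x ∈ U := genPt_mem_of_dense x hxW hU
  have := isGermInjectiveAt hxW
  have : IsIntegrallyClosed (X.presheaf.stalk x) := hx
  -- the local section
  let a := X.fromSpecStalk x
  let s : Spec (CommRingCat.of (FractionRing (X.presheaf.stalk x))) ⟶ pullback q a :=
    pullback.lift (genLift x hξ ≫ h) (genHom x) (by rw [Category.assoc, hh, genLift_ι])
  have hs1 : s ≫ pullback.fst q a = genLift x hξ ≫ h := pullback.lift_fst _ _ _
  have hs2 : s ≫ pullback.snd q a = genHom x := pullback.lift_snd _ _ _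
  obtain ⟨y', hy'1, hy'2⟩ := Scheme.Pullback.exists_preimage_pullback (f := q) (g := a) y₀
    (IsLocalRing.closedPoint (X.presheaf.stalk x))
    (hy₀.trans (X.fromSpecStalk_closedPoint).symm)
  have hemb := (pullback.fst q a).isEmbedding
  have hO : IsLocalRing.maximalIdeal (X.presheaf.stalk x) ≠ ⊥ := by
    intro e
    apply hxU
    have : genPt x = x := by
      refine Eq.trans ?_ (X.fromSpecStalk_closedPoint (x := x))
      show (genHom x ≫ X.fromSpecStalk x) (IsLocalRing.closedPoint _) = _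
      rw [Scheme.Hom.comp_apply]
      congr 1
      exact (closedPoint_map_eq_bot (R := X.presheaf.stalk x) _
        (IsFractionRing.injective _ _)).trans (PrimeSpectrum.ext e.symm)
    rwa [this] at hξ
  have : IsNoetherianRing (X.presheaf.stalk x) := inferInstance
  obtain ⟨σ₀, hσ1, hσ2, hσ3⟩ := exists_section_of_dvr (X.presheaf.stalk x) hO (pullback.snd q a)
    s hs2 hy'2 (by
    intro R hR hRO hRm
    let ι₀ : X.presheaf.stalk x ⟶ CommRingCat.of R :=
      CommRingCat.ofHom ((algebraMap (X.presheaf.stalk x) _).codRestrict R hRO)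
    have hloc : Spec.map ι₀ (IsLocalRing.closedPoint R) =
        IsLocalRing.closedPoint (X.presheaf.stalk x) := by
      apply PrimeSpectrum.ext
      symm
      refine (IsLocalRing.maximalIdeal.isMaximal _).eq_of_le
        (Ideal.IsPrime.ne_top ((Spec.map ι₀ (IsLocalRing.closedPoint R)).isPrime)) fun b hb ↦ ?_
      show ι₀.hom b ∈ IsLocalRing.maximalIdeal R
      exact (R.valuation_lt_one_iff ⟨_, hRO b⟩).mpr (hRm b hb)
    have hι₀ : Spec.map (CommRingCat.ofHom R.subtype) ≫ Spec.map ι₀ = genHom x := by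
      rw [← Spec.map_comp]; rfl
    let ε : FractionRing R →+* FractionRing (X.presheaf.stalk x) :=
      (FractionRing.algEquiv R (FractionRing (X.presheaf.stalk x))).toRingEquiv.toRingHom
    let ε' : FractionRing (X.presheaf.stalk x) →+* FractionRing R :=
      (FractionRing.algEquiv R (FractionRing (X.presheaf.stalk x))).symm.toRingEquiv.toRingHom
    have hε : ε.comp (algebraMap R (FractionRing R)) = R.subtype :=
      RingHom.ext fun r ↦
        (FractionRing.algEquiv R (FractionRing (X.presheaf.stalk x))).commutes r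
    have hε' : ε'.comp R.subtype = algebraMap R (FractionRing R) :=
      RingHom.ext fun r ↦
        (FractionRing.algEquiv R (FractionRing (X.presheaf.stalk x))).symm.commutes r
    have hεε : ε.comp ε' = RingHom.id _ :=
      RingHom.ext fun r ↦
        (FractionRing.algEquiv R (FractionRing (X.presheaf.stalk x))).apply_symm_apply r
    obtain ⟨h₁, hq, hc, hag⟩ := H R (Spec.map ι₀ ≫ a)
      (by rw [Scheme.Hom.comp_apply, hloc, X.fromSpecStalk_closedPoint])
      (Spec.map (CommRingCat.ofHom ε') ≫ genLift x hξ) (by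
        rw [Category.assoc, genLift_ι, ← hε', CommRingCat.ofHom_comp, Spec.map_comp,
          Category.assoc, reassoc_of% hι₀])
    refine ⟨pullback.lift h₁ (Spec.map ι₀) hq, hemb.injective ?_, ?_⟩
    · rw [← Scheme.Hom.comp_apply, pullback.lift_fst, hc, hy'1]
    · apply pullback.hom_ext
      · rw [Category.assoc, pullback.lift_fst, hs1]
        have := congrArg (Spec.map (CommRingCat.ofHom ε) ≫ ·) hag
        rw [← Category.assoc, ← Spec.map_comp, ← CommRingCat.ofHom_comp, hε] at this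
        rw [this, ← Category.assoc, ← Category.assoc, ← Spec.map_comp, ← CommRingCat.ofHom_comp,
          hεε, CommRingCat.ofHom_id, Spec.map_id, Category.id_comp]
      · rw [Category.assoc, pullback.lift_snd, hι₀, hs2])
  have hσq : (σ₀ ≫ pullback.fst q a) ≫ q = X.fromSpecStalk x := by
    rw [Category.assoc, pullback.condition, reassoc_of% hσ1]
  obtain ⟨V, hxV, f, hVW, hfq, hfσ⟩ := exists_spread q x W hxW (σ₀ ≫ pullback.fst q a) hσq
  have hfx : f ⟨x, hxV⟩ = y₀ := by
    have : (V.fromSpecStalkOfMem x hxV) (IsLocalRing.closedPoint _) = ⟨x, hxV⟩ := by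
      apply V.ι.isOpenEmbedding.injective
      rw [← Scheme.Hom.comp_apply, Scheme.Opens.fromSpecStalkOfMem_ι,
        Scheme.fromSpecStalk_closedPoint]
      rfl
    rw [← this, ← Scheme.Hom.comp_apply, hfσ, Scheme.Hom.comp_apply]
    exact (congrArg _ hσ2).trans hy'1
  -- shrink `V`
  obtain ⟨_, ⟨(Y₀ : Y.Opens), hY₀, rfl⟩, hyY₀, -⟩ :=
    Y.isBasis_affineOpens.exists_subset_of_mem_open (Set.mem_univ y₀) isOpen_univ
  have hY₀ : IsAffineOpen Y₀ := hY₀
  let V₁ : X.Opens := V.ι ''ᵁ (f ⁻¹ᵁ Y₀)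
  have hxV₁ : x ∈ V₁ := ⟨⟨x, hxV⟩, show f ⟨x, hxV⟩ ∈ Y₀ by rw [hfx]; exact hyY₀, rfl⟩
  let G : X.Opens := U.ι ''ᵁ (h ⁻¹ᵁ Y₀)
  obtain ⟨_, ⟨(Wn : X.Opens), hWn, rfl⟩, hxWn, hWnV⟩ :=
    X.isBasis_affineOpens.exists_subset_of_mem_open hxV₁ V₁.isOpen
  have hWn : IsAffineOpen Wn := hWn
  have : IsNoetherianRing Γ(X, Wn) := IsLocallyNoetherian.component_noetherian ⟨Wn, hWn⟩
  have hN : NoetherianSpace (Wn : Set X) := noetherianSpace_of_isAffineOpen Wn hWn
  have : NoetherianSpace ↥(((U ⊓ Wn : X.Opens) : Set X) ∩ (G : Set X)ᶜ) :=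
    (Topology.IsEmbedding.inclusion (show ((U ⊓ Wn : X.Opens) : Set X) ∩ (G : Set X)ᶜ ⊆ (Wn : Set X)
      from fun _ h ↦ h.1.2)).isInducing.noetherianSpace
  have hxD : x ∉ closure (((U ⊓ Wn : X.Opens) : Set X) ∩ (G : Set X)ᶜ) := by
    intro hxD
    obtain ⟨d, ⟨hd1, hd2⟩, hdx⟩ :=
      exists_specializes_of_mem_closure (U ⊓ Wn).isOpen G.isOpen.isClosed_compl hxD
    exact hd2 ⟨⟨d, hd1.1⟩, (H.specializes hxU ⟨d, hd1.1⟩ hdx).mem_open Y₀.isOpen hyY₀, rfl⟩
  let V' : X.Opens :=
    Wn ⊓ ⟨(closure (((U ⊓ Wn : X.Opens) : Set X) ∩ (G : Set X)ᶜ))ᶜ, isClosed_closure.isOpen_compl⟩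
  have hxV' : x ∈ V' := ⟨hxWn, hxD⟩
  have hV'V : V' ≤ V := fun v hv ↦ by
    obtain ⟨w, -, rfl⟩ := hWnV hv.1
    exact w.2
  refine ⟨V', hxV', X.homOfLE hV'V ≫ f, ?_, ?_, ?_⟩
  · rw [Category.assoc, hfq, Scheme.homOfLE_ι]
  · rw [Scheme.Hom.comp_apply]
    convert hfx using 2
    apply Subtype.ext
    simp
  · have hgen : genPt x ∈ U ⊓ V' := ⟨hξ, (genPt_specializes_self x).mem_open V'.isOpen hxV'⟩
    have : IsAffine (Y₀ : Scheme.{u}) := hY₀
    have hr₁ : Set.range (X.homOfLE (inf_le_right : U ⊓ V' ≤ V') ≫ X.homOfLE hV'V ≫ f) ⊆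
        Set.range Y₀.ι := by
      rw [Scheme.Opens.range_ι]
      rintro _ ⟨v, rfl⟩
      obtain ⟨w, hw, hwv⟩ := hWnV v.2.2.1
      rw [Scheme.Hom.comp_apply, Scheme.Hom.comp_apply]
      have e : w = (X.homOfLE hV'V) (X.homOfLE (inf_le_right : U ⊓ V' ≤ V') v) := by
        refine V.ι.isOpenEmbedding.injective ?_
        refine hwv.trans ?_; simp
      rw [e] at hw
      exact hw
    have hr₂ : Set.range (X.homOfLE (inf_le_left : U ⊓ V' ≤ U) ≫ h) ⊆ Set.range Y₀.ι := by
      rw [Scheme.Opens.range_ι]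
      rintro _ ⟨v, rfl⟩
      have hvG : v.1 ∈ G := by
        by_contra hvG
        exact v.2.2.2 (subset_closure ⟨⟨v.2.1, v.2.2.1⟩, hvG⟩)
      obtain ⟨w, hw, hwv⟩ := hvG
      rw [Scheme.Hom.comp_apply]
      have e : w = X.homOfLE (inf_le_left : U ⊓ V' ≤ U) v := by
        refine U.ι.isOpenEmbedding.injective ?_
        refine hwv.trans ?_; simp
      rw [e] at hw
      exact hw
    rw [← IsOpenImmersion.lift_fac Y₀.ι _ hr₁, ← IsOpenImmersion.lift_fac Y₀.ι _ hr₂]
    congr 1
    refine hom_ext_of_genLift x hxW (inf_le_right.trans (hV'V.trans hVW)) hgen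
      (terminal.from (Y₀ : Scheme.{u})) (terminal.hom_ext _ _) ?_
    rw [← cancel_mono Y₀.ι, Category.assoc, Category.assoc, IsOpenImmersion.lift_fac,
      IsOpenImmersion.lift_fac, ← Category.assoc, ← Category.assoc, ← Category.assoc,
      genLift_homOfLE, genLift_homOfLE, genLift_homOfLE,
      genLift_eq_fromSpecStalkOfMem x hxV, Category.assoc, hfσ, ← hs1]
    exact (Category.assoc _ _ _).symm.trans (congrArg (· ≫ pullback.fst q a) hσ3)

end NormalExtLib
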