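import Mathlib
import Groth.Agent.DvrDom.Mono

/-!
# Graphs of partial sections and universally open base change
-/

set_option autoImplicit false

universe u

open CategoryTheory Limits AlgebraicGeometry TopologicalSpace

namespace NormalExtLib

variable {X X' P : Scheme.{u}}

/-- The image of a section over an open of a separated morphism is closed over that open. -/
theorem exists_isClosed_range_section (q : P ⟶ X) [IsSeparated q] (V : X.Opens)
    (σ : (V : Scheme.{u}) ⟶ P) (hσ : σ ≫ q = V.ι) :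
    ∃ C : Set P, IsClosed C ∧ C ∩ (q ⁻¹ᵁ V : P.Opens) = Set.range σ := by
  have hr : Set.range σ ⊆ Set.range (q ⁻¹ᵁ V).ι := by
    rw [Scheme.Opens.range_ι]
    rintro _ ⟨v, rfl⟩
    show q (σ v) ∈ V
    rw [← Scheme.Hom.comp_apply, hσ]
    exact v.2
  let σ₀ := IsOpenImmersion.lift (q ⁻¹ᵁ V).ι σ hr
  have hσ₀ : σ₀ ≫ (q ∣_ V) = 𝟙 _ := by
    rw [← cancel_mono V.ι, Category.assoc, morphismRestrict_ι, IsOpenImmersion.lift_fac_assoc, hσ,
      Category.id_comp]
  have : IsClosedImmersion (σ₀ ≫ (q ∣_ V)) := by rw [hσ₀]; infer_instance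
  have : IsClosedImmersion σ₀ := IsClosedImmersion.of_comp σ₀ (q ∣_ V)
  obtain ⟨C, hC, hCσ⟩ := (Topology.IsInducing.isClosed_iff (q ⁻¹ᵁ V).ι.isOpenEmbedding.isInducing).mp
    σ₀.isClosedEmbedding.isClosed_range
  refine ⟨C, hC, ?_⟩
  have e : Set.range σ = (q ⁻¹ᵁ V).ι '' Set.range σ₀ := by
    rw [← Set.range_comp]
    congr 1
    funext v
    rw [Function.comp_apply, ← Scheme.Hom.comp_apply, IsOpenImmersion.lift_fac]
  rw [e, ← hCσ, Set.image_preimage_eq_inter_range, Scheme.Opens.range_ι]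

/-- If a section of `q` over `U` extends, after a universally open base change `f`, to a section
near `x'`, then the closure of its image meets the fibre over `f x'` in exactly one point. -/
theorem exists_eq_singleton_closure_range (q : P ⟶ X) [IsSeparated q] (U : X.Opens)
    (hU : Dense (U : Set X)) (gr : (U : Scheme.{u}) ⟶ P) (hgr : gr ≫ q = U.ι) (f : X' ⟶ X)
    [UniversallyOpen f] (x' : X') (V' : X'.Opens) (hx' : x' ∈ V')
    (g' : (V' : Scheme.{u}) ⟶ P) (hg' : g' ≫ q = V'.ι ≫ f)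
    (hag : X'.homOfLE (inf_le_right : f ⁻¹ᵁ U ⊓ V' ≤ V') ≫ g' =
      X'.homOfLE (inf_le_left : f ⁻¹ᵁ U ⊓ V' ≤ f ⁻¹ᵁ U) ≫ (f ∣_ U) ≫ gr) :
    g' ⟨x', hx'⟩ ∈ closure (Set.range gr) ∧
      ∀ w ∈ closure (Set.range gr), q w = f x' → w = g' ⟨x', hx'⟩ := by
  let π₁ := pullback.fst f q
  let π₂ := pullback.snd f q
  let σ : (V' : Scheme.{u}) ⟶ pullback f q := pullback.lift V'.ι g' hg'.symm
  have hσ1 : σ ≫ π₁ = V'.ι := pullback.lift_fst _ _ _
  have hσ2 : σ ≫ π₂ = g' := pullback.lift_snd _ _ _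
  let gr' : ((f ⁻¹ᵁ U : X'.Opens) : Scheme.{u}) ⟶ pullback f q :=
    pullback.lift (f ⁻¹ᵁ U).ι ((f ∣_ U) ≫ gr) (by
      rw [Category.assoc, hgr, morphismRestrict_ι])
  have hgr'1 : gr' ≫ π₁ = (f ⁻¹ᵁ U).ι := pullback.lift_fst _ _ _
  have hgr'2 : gr' ≫ π₂ = (f ∣_ U) ≫ gr := pullback.lift_snd _ _ _
  have : Mono gr := mono_of_mono_fac hgr
  -- the preimage of the graph is contained in the graph of the pullback
  have hpre : π₂ ⁻¹' Set.range gr ⊆ Set.range gr' := by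
    rintro w ⟨u, hu⟩
    let a := (pullback f q).fromSpecResidueField w
    obtain ⟨l, hl, -⟩ := DvrDomLib.exists_lift_of_mono_of_apply_eq gr
      (k := (pullback f q).residueField w) (a ≫ π₂) u (by
        rw [Scheme.Hom.comp_apply, Scheme.fromSpecResidueField_apply]; exact hu.symm)
    have hc : Set.range (a ≫ π₁) ⊆ Set.range (f ⁻¹ᵁ U).ι := by
      rw [Scheme.Opens.range_ι]
      rintro _ ⟨t, rfl⟩
      show f ((a ≫ π₁) t) ∈ U
      have e : (a ≫ π₁) ≫ f = l ≫ U.ι := by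
        rw [Category.assoc, pullback.condition, ← Category.assoc, ← hl, Category.assoc, hgr]
      rw [← Scheme.Hom.comp_apply, e]
      exact (l t).2
    let c := IsOpenImmersion.lift (f ⁻¹ᵁ U).ι (a ≫ π₁) hc
    have hlc : c ≫ (f ∣_ U) = l := by
      rw [← cancel_mono U.ι, Category.assoc, morphismRestrict_ι, IsOpenImmersion.lift_fac_assoc,
        Category.assoc, pullback.condition, ← Category.assoc, ← hl, Category.assoc, hgr]
    have ha : c ≫ gr' = a := by
      apply pullback.hom_ext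
      · rw [Category.assoc, hgr'1, IsOpenImmersion.lift_fac]
      · rw [Category.assoc, hgr'2, ← Category.assoc, hlc, hl]
    refine ⟨c (IsLocalRing.closedPoint _), ?_⟩
    rw [← Scheme.Hom.comp_apply, ha, Scheme.fromSpecResidueField_apply]
  -- the graph of the pullback lies in the image of `σ` over `V'`
  have hsub : Set.range gr' ∩ (π₁ ⁻¹ᵁ V' : (pullback f q).Opens) ⊆ Set.range σ := by
    rintro _ ⟨⟨v, rfl⟩, hv⟩
    have hvV : (f ⁻¹ᵁ U).ι v ∈ V' := by
      rw [← hgr'1, Scheme.Hom.comp_apply]; exact hv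
    let v₀ : ((f ⁻¹ᵁ U ⊓ V' : X'.Opens) : Scheme.{u}) := ⟨v.1, v.2, hvV⟩
    have e : X'.homOfLE (inf_le_right : f ⁻¹ᵁ U ⊓ V' ≤ V') ≫ σ =
        X'.homOfLE (inf_le_left : f ⁻¹ᵁ U ⊓ V' ≤ f ⁻¹ᵁ U) ≫ gr' := by
      apply pullback.hom_ext
      · rw [Category.assoc, Category.assoc, hσ1, hgr'1, Scheme.homOfLE_ι, Scheme.homOfLE_ι]
      · rw [Category.assoc, Category.assoc, hσ2, hgr'2, hag]
    refine ⟨X'.homOfLE inf_le_right v₀, ?_⟩
    rw [← Scheme.Hom.comp_apply, e, Scheme.Hom.comp_apply]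
    congr 1
    apply Subtype.ext
    simp [v₀]
  obtain ⟨C, hC, hCσ⟩ := exists_isClosed_range_section π₁ V' σ hσ1
  constructor
  · have hd : Dense ((f ⁻¹ᵁ U : X'.Opens) : Set X') := hU.preimage f.isOpenMap
    have hd' : Dense (V'.ι ⁻¹' ((f ⁻¹ᵁ U : X'.Opens) : Set X')) :=
      hd.preimage V'.ι.isOpenEmbedding.isOpenMap
    refine closure_mono ?_ (g'.continuous.range_subset_closure_image_dense hd' ⟨_, rfl⟩)
    rintro _ ⟨v, hv, rfl⟩
    refine ⟨(f ∣_ U) ⟨v.1, hv⟩, ?_⟩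
    have := congrArg (fun m ↦ m (⟨v.1, hv, v.2⟩ : ((f ⁻¹ᵁ U ⊓ V' : X'.Opens) : Scheme.{u}))) hag
    simp only [Scheme.Hom.comp_apply] at this
    convert this.symm using 2 <;> first | rfl | (apply Subtype.ext; simp) | (congr 1; apply Subtype.ext; simp)
  · intro w hw hwx
    obtain ⟨w', hw'1, hw'2⟩ := Scheme.Pullback.exists_preimage_pullback (f := f) (g := q) x' w hwx.symm
    have hmem : w' ∈ closure (π₂ ⁻¹' Set.range gr) :=
      π₂.isOpenMap.preimage_closure_subset_closure_preimage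
        (show π₂ w' ∈ closure (Set.range gr) by rw [hw'2]; exact hw)
    have hV : w' ∈ (π₁ ⁻¹ᵁ V' : (pullback f q).Opens) := by
      show π₁ w' ∈ V'
      rw [hw'1]; exact hx'
    have hC' : w' ∈ C := by
      refine closure_minimal ?_ hC
        ((π₁ ⁻¹ᵁ V').isOpen.inter_closure ⟨hV, closure_mono hpre hmem⟩)
      rintro z ⟨hz1, hz2⟩
      exact (hCσ.ge (hsub ⟨hz2, hz1⟩)).1
    obtain ⟨v, hv⟩ := hCσ.le ⟨hC', hV⟩
    have hvx : v = ⟨x', hx'⟩ := by
      apply Subtype.ext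
      refine Eq.trans ?_ hw'1
      rw [← hv, ← Scheme.Hom.comp_apply, hσ1]
      rfl
    rw [← hw'2, ← hv, ← Scheme.Hom.comp_apply, hσ2, hvx]

end NormalExtLib
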